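import Cfsg.Agent.Lib.BasicSteiner.Search

/-!
# The search certificate for the Steiner systems S(2, 5, 21)
-/

set_option autoImplicit false
set_option maxRecDepth 100000

namespace Cfsg.Agent.Lib.BasicSteiner.Witt.S2521

open Cfsg.Agent.Lib.BasicSteiner.Search

/-- The blocks of the model, as masks. -/
def refList : List ℕ := [328464, 137360, 1057872, 573488, 529672, 1081992, 84040, 401448, 43268, 279684, 655940, 1118244, 1196290, 598146, 299074, 1837057, 230401, 29185, 3618, 481, 31]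

/-- The search tree. -/
def cert : Cfsg.Agent.Lib.BasicSteiner.Search.Tree := (.newpt (.newpt (.forced [(3, 3)] (.newpt (.forced [(33, 33), (34, 34), (513, 513), (1025, 1025), (2049, 2049)] (.pick 66 [(561218, 299074, [0, 1, 2, 3, 4, 5, 6, 7, 8, 9, 10, 11, 12, 13, 14, 15, 16, 17, 19, 18, 20]), (1085506, 299074, [0, 1, 2, 3, 4, 5, 6, 7, 8, 9, 10, 11, 12, 13, 14, 15, 16, 17, 20, 18, 19]), (331842, 299074, [0, 1, 2, 3, 4, 5, 6, 7, 8, 9, 10, 11, 12, 13, 14, 16, 15, 17, 18, 19, 20]), (593986, 299074, [0, 1, 2, 3, 4, 5, 6, 7, 8, 9, 10, 11, 12, 13, 14, 16, 15, 17, 19, 18, 20]), (1118274, 299074, [0, 1, 2, 3, 4, 5, 6, 7, 8, 9, 10, 11, 12, 13, 14, 16, 15, 17, 20, 18, 19]), (397378, 299074, [0, 1, 2, 3, 4, 5, 6, 7, 8, 9, 10, 11, 12, 13, 14, 17, 15, 16, 18, 19, 20]), (659522, 299074, [0, 1, 2, 3, 4, 5, 6, 7, 8, 9, 10, 11, 12, 13, 14, 17, 15, 16, 19, 18,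 20]), (1183810, 299074, [0, 1, 2, 3, 4, 5, 6, 7, 8, 9, 10, 11, 12, 13, 14, 17, 15, 16, 20, 18, 19]), (303170, 299074, [0, 1, 2, 3, 4, 5, 6, 7, 8, 9, 10, 11, 13, 12, 14, 15, 16, 17, 18, 19, 20]), (565314, 299074, [0, 1, 2, 3, 4, 5, 6, 7, 8, 9, 10, 11, 13, 12, 14, 15, 16, 17, 19, 18, 20]), (1089602, 299074, [0, 1, 2, 3, 4, 5, 6, 7, 8, 9, 10, 11, 13, 12, 14, 15, 16, 17, 20, 18, 19]), (335938, 299074, [0, 1, 2, 3, 4, 5, 6, 7, 8, 9, 10, 11, 13, 12, 14, 16, 15, 17, 18, 19, 20]), (598082, 299074, [0, 1, 2, 3, 4, 5, 6, 7, 8, 9, 10, 11, 13, 12, 14, 16, 15, 17, 19, 18, 20]), (1122370, 299074, [0, 1, 2, 3, 4, 5, 6, 7, 8, 9, 10, 11, 13, 12, 14, 16, 15, 17, 20, 18, 19]), (401474, 299074, [0, 1, 2, 3, 4, 5, 6, 7, 8, 9, 10, 11, 13, 12, 14, 17, 15, 16, 18, 19, 20]), (663618, 299074, [0, 1, 2, 3, 4, 5, 6, 7, 8, 9, 10, 11, 13, 12, 14, 17, 15, 16, 19, 18, 20]), (1187906,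 299074, [0, 1, 2, 3, 4, 5, 6, 7, 8, 9, 10, 11, 13, 12, 14, 17, 15, 16, 20, 18, 19]), (311362, 299074, [0, 1, 2, 3, 4, 5, 6, 7, 8, 9, 10, 11, 14, 12, 13, 15, 16, 17, 18, 19, 20]), (573506, 299074, [0, 1, 2, 3, 4, 5, 6, 7, 8, 9, 10, 11, 14, 12, 13, 15, 16, 17, 19, 18, 20]), (1097794, 299074, [0, 1, 2, 3, 4, 5, 6, 7, 8, 9, 10, 11, 14, 12, 13, 15, 16, 17, 20, 18, 19]), (344130, 299074, [0, 1, 2, 3, 4, 5, 6, 7, 8, 9, 10, 11, 14, 12, 13, 16, 15, 17, 18, 19, 20]), (606274, 299074, [0, 1, 2, 3, 4, 5, 6, 7, 8, 9, 10, 11, 14, 12, 13, 16, 15, 17, 19, 18, 20]), (1130562, 299074, [0, 1, 2, 3, 4, 5, 6, 7, 8, 9, 10, 11, 14, 12, 13, 16, 15, 17, 20, 18, 19]), (409666, 299074, [0, 1, 2, 3, 4, 5, 6, 7, 8, 9, 10, 11, 14, 12, 13, 17, 15, 16, 18, 19, 20]), (671810, 299074, [0, 1, 2, 3, 4, 5, 6, 7, 8, 9, 10, 11, 14, 12, 13, 17, 15, 16, 19, 18, 20]), (1196098, 299074,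 [0, 1, 2, 3, 4, 5, 6, 7, 8, 9, 10, 11, 14, 12, 13, 17, 15, 16, 20, 18, 19])] (.cons 299074 (.pick 130 [(1122434, 598146, [0, 1, 2, 3, 4, 5, 6, 7, 8, 9, 10, 11, 12, 13, 14, 15, 16, 17, 18, 20, 19]), (663682, 598146, [0, 1, 2, 3, 4, 5, 6, 7, 8, 9, 10, 11, 12, 13, 14, 15, 17, 16, 18, 19, 20]), (1187970, 598146, [0, 1, 2, 3, 4, 5, 6, 7, 8, 9, 10, 11, 12, 13, 14, 15, 17, 16, 18, 20, 19]), (606338, 598146, [0, 1, 2, 3, 4, 5, 6, 7, 8, 9, 10, 11, 12, 14, 13, 15, 16, 17, 18, 19, 20]), (1130626, 598146, [0, 1, 2, 3, 4, 5, 6, 7, 8, 9, 10, 11, 12, 14, 13, 15, 16, 17, 18, 20, 19]), (671874, 598146, [0, 1, 2, 3, 4, 5, 6, 7, 8, 9, 10, 11, 12, 14, 13, 15, 17, 16, 18, 19, 20]), (1196162, 598146, [0, 1, 2, 3, 4, 5, 6, 7, 8, 9, 10, 11, 12, 14, 13, 15, 17, 16, 18, 20, 19])] (.cons 598146 (.forced [(258, 1196290)] (.pick 36 [(659492, 1118244, [0, 1, 2, 3, 4, 5, 6,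 7, 8, 9, 11, 10, 12, 13, 14, 18, 19, 20, 15, 16, 17]), (1089572, 1118244, [0, 1, 2, 3, 4, 5, 6, 7, 8, 10, 9, 11, 15, 16, 17, 12, 13, 14, 18, 19, 20]), (401444, 1118244, [0, 1, 2, 3, 4, 5, 6, 7, 8, 11, 9, 10, 18, 19, 20, 12, 13, 14, 15, 16, 17]), (573476, 1118244, [0, 1, 2, 3, 4, 5, 6, 7, 8, 10, 11, 9, 15, 16, 17, 18, 19, 20, 12, 13, 14]), (344100, 1118244, [0, 1, 2, 3, 4, 5, 6, 7, 8, 11, 10, 9, 18, 19, 20, 15, 16, 17, 12, 13, 14])] (.cons 1118244 (.forced [(576, 655940), (1152, 279684), (260, 43268)] (.pick 40 [(573480, 401448, [0, 1, 2, 3, 4, 5, 6, 8, 7, 9, 11, 10, 12, 14, 13, 18, 20, 19, 15, 17, 16])] (.cons 401448 (.forced [(72, 84040), (136, 1081992), (264, 529672), (48, 573488), (80, 1057872), (144, 137360), (272, 328464)] .leaf) .nil))) .nil))) .nil)) .nil)))))))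

theorem chk_cert : chk 21 2 5 2 1 refList cert 0 [] = true := by decide +kernel

theorem ref_nodup : refList.Nodup := by decide +kernel

theorem ref_lt : ∀ x ∈ refList, x < 2 ^ 24 := by decide +kernel

theorem ref_card : refList.length * Nat.choose 5 2 = Nat.choose 21 2 := by decide +kernel

theorem concl {α : Type*} [DecidableEq α] [Fintype α] {B : Set (Finset α)} (hα : Fintype.card α = 21)
    (hB : Cfsg.IsSteinerSystem 2 5 B) (hI : ∀ b ∈ B, ∀ c ∈ B, b ≠ c → allowedB 2 (b ∩ c).card = true) :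
    Concl B 21 refList :=
  concl_of_chk hα (by norm_num) (by norm_num) hB hI (allowed_le (by norm_num)) (by decide +kernel) ref_card ref_nodup ref_lt (tr := cert) rfl chk_cert

end Cfsg.Agent.Lib.BasicSteiner.Witt.S2521
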