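import Cfsg.Agent.Lib.BasicSteiner.Search

/-!
# The search certificate for the Steiner systems S(5, 6, 12)
-/

set_option autoImplicit false
set_option maxRecDepth 100000

namespace Cfsg.Agent.Lib.BasicSteiner.Witt.S5612

open Cfsg.Agent.Lib.BasicSteiner.Search

/-- The blocks of the model, as masks. -/
def refList : List ℕ := [2978, 3426, 1762, 3730, 1874, 2514, 1458, 2674, 3466, 3658, 970, 1834, 2282, 2842, 1242, 3130, 698, 378, 1926, 2886, 3270, 3622, 486, 3350, 726, 822, 2230, 1142, 2702, 1358, 2350, 1198, 622, 1566, 414, 2142, 1953, 3681, 2529, 3473, 2897, 1745, 2737, 1393, 2953, 1865, 3273, 3369, 745, 3609, 473, 825, 1209, 2169, 3717, 3397, 965, 2853, 1253, 1813, 2261, 3125, 437, 629, 1421, 2637, 2221, 1581, 365, 2333, 669, 1117, 3492, 1892, 2788, 2964, 3668, 1492, 1716, 2420, 3852, 1740, 2508, 940, 3180, 3228, 860, 2620, 1340, 252, 3843, 2755, 1475, 3235, 867, 915, 2355, 1587, 3155, 243, 1675, 2379, 2603, 427, 1131, 2203, 1307, 603, 4032, 3888, 3312, 1008, 3752, 2920, 1512, 1944, 3416, 2776, 2488,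 1656, 2439, 1319, 679, 1607, 2151, 2583, 3087, 1175, 783, 343, 207, 63]

/-- The search tree. -/
def cert : Cfsg.Agent.Lib.BasicSteiner.Search.Tree := (.newpt (.newpt (.newpt (.newpt (.newpt (.forced [(31, 31)] (.newpt (.forced [(79, 79), (87, 87), (271, 271)] (.pick 151 [] (.cons 151 (.forced [(1039, 1039), (535, 2583), (2119, 2151), (583, 1607), (551, 679), (295, 1319), (391, 2439), (632, 1656), (440, 2488), (728, 2776), (1368, 3416), (920, 1944), (488, 1512), (872, 2920), (1704, 3752), (496, 1008), (1264, 3312), (1840, 3888), (1984, 4032)] (.pick 91 [(1115, 603, [0, 1, 2, 3, 4, 5, 10, 11, 7, 6, 9, 8]), (2139, 603, [0, 1, 2, 3, 6, 7, 11, 10, 5, 4, 9, 8])] (.cons 603 (.forced [(1051, 1307), (155, 2203), (1099, 1131), (171, 427), (555, 2603), (331, 2379), (651, 1675), (115, 243), (1107, 3155), (1075, 1587), (307, 2355), (403, 915), (355, 867), (1187, 3235), (451, 1475), (707, 2755), (1795, 3843), (124, 252), (316, 1340), (572, 2620), (348, 860), (1180, 3228), (1132, 3180), (428, 940), (460, 2508), (716,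 1740), (1804, 3852), (372, 2420), (692, 1716), (468, 1492), (1620, 3668), (916, 2964), (740, 2788), (868, 1892), (1444, 3492)] (.pick 93 [(2141, 1117, [0, 1, 2, 3, 6, 7, 4, 5, 8, 9, 11, 10])] (.cons 1117 (.forced [(541, 669), (285, 2333), (301, 365), (557, 1581), (173, 2221), (589, 2637), (397, 1421), (117, 629), (181, 437), (1077, 3125), (213, 2261), (789, 1813), (229, 1253), (805, 2853), (453, 965), (1349, 3397), (1669, 3717), (121, 2169), (185, 1209), (313, 825), (217, 473), (1561, 3609), (233, 745), (1321, 3369), (1225, 3273), (841, 1865), (905, 2953), (369, 1393), (689, 2737), (721, 1745), (849, 2897), (1425, 3473), (481, 2529), (1633, 3681), (929, 1953), (94, 2142), (158, 414), (542, 1566), (110, 622), (174, 1198), (302, 2350), (334, 1358), (654, 2702), (118, 1142), (182, 2230), (310, 822), (214, 726), (1302, 3350), (230, 486), (1574, 3622), (1222, 3270), (838, 2886), (902, 1926), (122, 378), (186, 698), (1082, 3130), (218, 1242), (794, 2842), (234, 2282), (810, 1834), (458, 970), (1610, 3658), (1418,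 3466), (626, 2674), (434, 1458), (466, 2514), (850, 1874), (1682, 3730), (738, 1762), (1378, 3426), (930, 2978)] .leaf) .nil))) .nil))) (.cons 663 (.pick 103 [] (.cons 103 (.forced [(1039, 1039)] (.pick 1047 [] .nil)) (.cons 615 (.pick 167 [] (.cons 167 (.forced [(1039, 1039)] (.pick 1047 [] .nil)) (.cons 423 (.pick 91 [] (.cons 91 (.forced [(1039, 1039)] (.pick 1047 [] .nil)) (.cons 603 (.forced [(93, 93), (1039, 1039)] (.pick 1047 [] .nil)) .nil))) .nil))) .nil))) .nil)))))))))))

theorem chk_cert : chk 12 5 6 29 4 refList cert 0 [] = true := by decide +kernel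

theorem ref_nodup : refList.Nodup := by decide +kernel

theorem ref_lt : ∀ x ∈ refList, x < 2 ^ 24 := by decide +kernel

theorem ref_card : refList.length * Nat.choose 6 5 = Nat.choose 12 5 := by decide +kernel

theorem concl {α : Type*} [DecidableEq α] [Fintype α] {B : Set (Finset α)} (hα : Fintype.card α = 12)
    (hB : Cfsg.IsSteinerSystem 5 6 B) (hI : ∀ b ∈ B, ∀ c ∈ B, b ≠ c → allowedB 29 (b ∩ c).card = true) :
    Concl B 12 refList :=
  concl_of_chk hα (by norm_num) (by norm_num) hB hI (allowed_le (by norm_num)) (by decide +kernel) ref_card ref_nodup ref_lt (tr := cert) rfl chk_cert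

end Cfsg.Agent.Lib.BasicSteiner.Witt.S5612
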